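import Groth.Agent.Lib.Dev4.ImpurityQuasiFinite

/-!
# Impurity data and closed immersions
-/

set_option autoImplicit false
set_option maxSynthPendingDepth 3
set_option linter.style.haveILetI false

universe u

open TensorProduct IsLocalRing

set_option backward.isDefEq.respectTransparency.types false

attribute [local instance] Algebra.TensorProduct.rightAlgebra

namespace Groth.Agent.ImpHens28

open Groth.Agent.Dev4

variable {A B C N : Type u} [CommRing A] [CommRing B] [Algebra A B] [CommRing C] [Algebra A C] [Algebra B C]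
  [IsScalarTower A B C] [AddCommGroup N] [Module B N] [Module C N] [Module A N]
  [IsScalarTower A B N] [IsScalarTower A C N] [IsScalarTower B C N]

/-- Up to a function invertible at the point, elements of the fibre come from the total space. -/
theorem exists_redMap_smul {A' : Type u} [CommRing A'] [Algebra A A'] (t : Ideal A') [t.IsPrime]
    {X : Type u} [AddCommGroup X] [Module A X] (z : t.ResidueField ⊗[A] X) :
    ∃ (s : A') (k : A' ⊗[A] X), s ∉ t ∧ redMap A t X k = algebraMap A' t.ResidueField s • z := by
  induction z using TensorProduct.induction_on with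
  | zero => exact ⟨1, 0, Ideal.IsPrime.one_notMem ‹_›, by simp⟩
  | add u v hu hv =>
    obtain ⟨s, k, hs, hk⟩ := hu
    obtain ⟨s', k', hs', hk'⟩ := hv
    refine ⟨s * s', s' • k + s • k', Ideal.IsPrime.mul_notMem ‹_› hs hs', ?_⟩
    have key : ∀ (g : A') (y : A' ⊗[A] X),
        redMap A t X (g • y) = algebraMap A' t.ResidueField g • redMap A t X y := fun g y => by
      induction y using TensorProduct.induction_on with
      | zero => simp
      | add p q hp hq => simp only [smul_add, map_add, hp, hq]
      | tmul h x => rw [TensorProduct.smul_tmul', redMap_tmul, redMap_tmul, TensorProduct.smul_tmul', smul_eq_mul,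
          smul_eq_mul, map_mul]
    rw [map_add, key, key, hk, hk', smul_smul, smul_smul, smul_add, map_mul,
      mul_comm (algebraMap A' t.ResidueField s')]
  | tmul c x =>
    obtain ⟨y, ⟨w, hw⟩, rfl⟩ := IsLocalization.exists_mk'_eq (nonZeroDivisors (A' ⧸ t)) c
    obtain ⟨g, rfl⟩ := Ideal.Quotient.mk_surjective y
    obtain ⟨s, rfl⟩ := Ideal.Quotient.mk_surjective w
    refine ⟨s, g ⊗ₜ x, fun h => ?_, ?_⟩
    · rw [Ideal.Quotient.eq_zero_iff_mem.2 h] at hw
      exact zero_notMem_nonZeroDivisors hw
    · rw [redMap_tmul, TensorProduct.smul_tmul', smul_eq_mul,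
        IsScalarTower.algebraMap_apply A' (A' ⧸ t) t.ResidueField g,
        IsScalarTower.algebraMap_apply A' (A' ⧸ t) t.ResidueField s]
      exact congrArg (· ⊗ₜ[A] x) (IsLocalization.mk'_spec' t.ResidueField _ ⟨_, hw⟩).symm

omit [Algebra A C] [IsScalarTower A B C] [IsScalarTower A C N] in
theorem fibAct_eq_zero_of_ker {κ : Type u} [CommRing κ] [Algebra A κ] (K : Submodule A B)
    (hK : ∀ b ∈ K, algebraMap B C b = 0) (x : κ ⊗[A] K) (y : κ ⊗[A] N) :
    fibAct A B N κ (K.subtype.lTensor κ x) y = 0 := by
  induction x using TensorProduct.induction_on with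
  | zero => simp
  | add u v hu hv => simp only [map_add, LinearMap.add_apply, hu, hv, add_zero]
  | tmul c b =>
    induction y using TensorProduct.induction_on with
    | zero => simp
    | add u v hu hv => simp only [map_add, hu, hv, add_zero]
    | tmul d m =>
      rw [LinearMap.lTensor_tmul, fibAct_tmul, ← algebraMap_smul C (K.subtype b) m]
      rw [show algebraMap B C (K.subtype b) = 0 from hK b b.2, zero_smul, TensorProduct.tmul_zero]

theorem fibAct_map {κ : Type u} [CommRing κ] [Algebra A κ] (x : κ ⊗[A] B) (y : κ ⊗[A] N) :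
    fibAct A C N κ ((IsScalarTower.toAlgHom A B C).toLinearMap.lTensor κ x) y = fibAct A B N κ x y := by
  induction x using TensorProduct.induction_on with
  | zero => simp
  | add u v hu hv => simp only [map_add, LinearMap.add_apply, hu, hv]
  | tmul c b =>
    induction y using TensorProduct.induction_on with
    | zero => simp
    | add u v hu hv => simp only [map_add, hu, hv]
    | tmul d m =>
      rw [LinearMap.lTensor_tmul, fibAct_tmul, fibAct_tmul]
      exact congrArg (fun v => (c * d) ⊗ₜ[A] v) (algebraMap_smul C b m)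

theorem redMap_lTensor {A' : Type u} [CommRing A'] [Algebra A A'] (I : Ideal A') [I.IsPrime]
    {X Y : Type u} [AddCommGroup X] [Module A X] [AddCommGroup Y] [Module A Y] (f : X →ₗ[A] Y) (x : A' ⊗[A] X) :
    redMap A I Y (f.lTensor A' x) = f.lTensor I.ResidueField (redMap A I X x) := by
  induction x using TensorProduct.induction_on with
  | zero => simp
  | add u v hu hv => simp only [map_add, hu, hv]
  | tmul g b => simp [redMap_tmul]

theorem hasDatum_iff_of_surjective (hBC : Function.Surjective (algebraMap B C))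
    {A' : Type u} [CommRing A'] [Algebra A A'] (t' t : Ideal A') [t'.IsPrime] [t.IsPrime] :
    HasDatum A C N t' t ↔ HasDatum A B N t' t := by
  let π : B →ₗ[A] C := (IsScalarTower.toAlgHom A B C).toLinearMap
  constructor
  · rintro ⟨a, s, n, hs, hat, hn, han⟩
    obtain ⟨ã, rfl⟩ := LinearMap.lTensor_surjective A' (g := π) hBC a
    have h0 : π.lTensor t.ResidueField (redMap A t B ã - redMap A t B (s ⊗ₜ[A] 1)) = 0 := by
      rw [map_sub, ← redMap_lTensor, ← redMap_lTensor, LinearMap.lTensor_tmul,
        show π 1 = (1 : C) from map_one (algebraMap B C), hat, sub_self]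
    obtain ⟨z, hz⟩ := (lTensor_exact t.ResidueField (LinearMap.exact_subtype_ker_map π) hBC _).1 h0
    obtain ⟨s', k, hs', hk⟩ := exists_redMap_smul t z
    let k' : A' ⊗[A] B := (LinearMap.ker π).subtype.lTensor A' k
    refine ⟨(s' ⊗ₜ[A] 1) * ã - k', s' * s, n, Ideal.IsPrime.mul_notMem ‹_› hs' hs, ?_, hn, ?_⟩
    · have hmul : ∀ (g : A') (y : A' ⊗[A] B),
          redMap A t B ((g ⊗ₜ[A] 1) * y) = algebraMap A' t.ResidueField g • redMap A t B y := fun g y => by
        induction y using TensorProduct.induction_on with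
        | zero => simp
        | add p q hp hq => simp only [mul_add, map_add, smul_add, hp, hq]
        | tmul h x => rw [Algebra.TensorProduct.tmul_mul_tmul, one_mul, redMap_tmul, redMap_tmul,
            TensorProduct.smul_tmul', smul_eq_mul, map_mul]
      have hsm : ∀ (c : t.ResidueField) (y : t.ResidueField ⊗[A] LinearMap.ker π),
          (LinearMap.ker π).subtype.lTensor t.ResidueField (c • y) =
            c • (LinearMap.ker π).subtype.lTensor t.ResidueField y := fun c y => by
        induction y using TensorProduct.induction_on with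
        | zero => simp
        | add p q hp hq => simp only [smul_add, map_add, hp, hq]
        | tmul h x => simp [TensorProduct.smul_tmul']
      rw [map_sub, hmul, show redMap A t B k' = _ from redMap_lTensor t _ k, hk, hsm, hz, smul_sub, sub_sub_cancel,
        redMap_tmul, redMap_tmul, TensorProduct.smul_tmul', smul_eq_mul, map_mul]
    · have hmulred : redMap A t' B ((s' ⊗ₜ[A] 1) * ã) = redMap A t' B (s' ⊗ₜ[A] 1) * redMap A t' B ã :=
        map_mul (Algebra.TensorProduct.map (IsScalarTower.toAlgHom A A' t'.ResidueField) (AlgHom.id A B)) _ _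
      rw [map_sub, map_sub, LinearMap.sub_apply, hmulred, fibAct_mul, ← fibAct_map (C := C) (redMap A t' B ã),
        ← redMap_lTensor, han, map_zero, show redMap A t' B k' = _ from redMap_lTensor t' _ k,
        fibAct_eq_zero_of_ker (C := C) (LinearMap.ker π) (fun b hb => hb), sub_zero]
  · rintro ⟨a, s, n, hs, hat, hn, han⟩
    refine ⟨π.lTensor A' a, s, n, hs, ?_, hn, ?_⟩
    · rw [redMap_lTensor, hat, ← redMap_lTensor, LinearMap.lTensor_tmul,
        show π 1 = (1 : C) from map_one (algebraMap B C)]
    · rw [redMap_lTensor, fibAct_map, han]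

theorem impurity_iff_of_surjective (hBC : Function.Surjective (algebraMap B C)) [Algebra.FiniteType A B]
    [Module.Finite C N] (p : Ideal A) [p.IsPrime] :
    (FlatCA.IsPureAlong A C N p ↔ FlatCA.IsPureAlong A B N p) ∧
      (FlatCA.IsUnivPureAlong A C N p ↔ FlatCA.IsUnivPureAlong A B N p) := by
  haveI : Algebra.FiniteType A C :=
    Algebra.FiniteType.of_surjective (IsScalarTower.toAlgHom A B C) hBC
  haveI : Module.Finite B C := Module.Finite.of_surjective (Algebra.linearMap B C) hBC
  haveI : Module.Finite B N := Module.Finite.trans C N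
  constructor <;> constructor <;> intro h A' B' N' i1 i2 i3 i4 i5 i6 i7 i8 i9 i10 i11 i12 i13 i14 f t' t i15 i16 P i17
  · intro hnhd himp
    obtain ⟨P₀, hP₀, h₀⟩ := hasImpurity_of_hasDatum (B := C) t' t himp.2.2.1 himp.2.2.2.1
      ((hasDatum_iff_of_surjective hBC t' t).2 (hasDatum_of_isImpurity himp))
    exact h A' (A' ⊗[A] C) ((A' ⊗[A] C) ⊗[C] N) _ t' t P₀ hnhd h₀
  · intro hnhd himp
    obtain ⟨P₀, hP₀, h₀⟩ := hasImpurity_of_hasDatum (B := B) t' t himp.2.2.1 himp.2.2.2.1
      ((hasDatum_iff_of_surjective hBC t' t).1 (hasDatum_of_isImpurity himp))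
    exact h A' (A' ⊗[A] B) ((A' ⊗[A] B) ⊗[B] N) _ t' t P₀ hnhd h₀
  · intro himp
    obtain ⟨P₀, hP₀, h₀⟩ := hasImpurity_of_hasDatum (B := C) t' t himp.2.2.1 himp.2.2.2.1
      ((hasDatum_iff_of_surjective hBC t' t).2 (hasDatum_of_isImpurity himp))
    exact h A' (A' ⊗[A] C) ((A' ⊗[A] C) ⊗[C] N) _ t' t P₀ h₀
  · intro himp
    obtain ⟨P₀, hP₀, h₀⟩ := hasImpurity_of_hasDatum (B := B) t' t himp.2.2.1 himp.2.2.2.1
      ((hasDatum_iff_of_surjective hBC t' t).1 (hasDatum_of_isImpurity himp))
    exact h A' (A' ⊗[A] B) ((A' ⊗[A] B) ⊗[B] N) _ t' t P₀ h₀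

end Groth.Agent.ImpHens28
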