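import Groth.Agent.Lib.Dev4.ImpurityNoetherian
import Groth.Agent.Lib.Hens.AtPrime
import Groth.Agent.Lib.ShFlat24.EtaleFlat

/-!
# Impurities over elementary étale neighbourhoods give impurities over the henselization
-/

set_option autoImplicit false
set_option maxSynthPendingDepth 3
set_option linter.style.haveILetI false

universe u

open TensorProduct IsLocalRing

set_option backward.isDefEq.respectTransparency.types false

namespace Groth.Agent.ImpHens28

open Groth.Agent.Dev4 Groth.Agent.Hens

variable {A B N : Type u} [CommRing A] [CommRing B] [Algebra A B] [AddCommGroup N] [Module B N] [Module A N]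
  [IsScalarTower A B N]

theorem exists_hens_datum {p : Ideal A} [p.IsPrime] {A' : Type u} [CommRing A'] [Algebra A A']
    (t' t : Ideal A') [t'.IsPrime] [t.IsPrime] (hle : t' ≤ t) (hnhd : FlatCA.IsEtaleNhd A A' p t)
    (hd : HasDatum A B N t' t) :
    ∃ (w : Ideal (Hs A p.ResidueField)) (_ : w.IsPrime),
      HasDatum A B N w (maximalIdeal (Hs A p.ResidueField)) := by
  obtain ⟨hA', hover, hbij⟩ := hnhd
  haveI := hA'
  obtain ⟨σ, hσ⟩ := exists_algHom_of_bijective p t hover.over hbij
  obtain ⟨i, e, he⟩ := Nbhd.exists_of (K := p.ResidueField) A' σ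
  let ψ : A' →ₐ[A] Hs A p.ResidueField :=
    ((Hs.of i).comp (IsScalarTower.toAlgHom A i.S i.G)).comp e.toAlgHom
  have ht : t = (maximalIdeal (Hs A p.ResidueField)).comap ψ.toRingHom := by
    rw [← hσ]
    ext x
    show σ x = 0 ↔ Hs.of i (algebraMap i.S i.G (e x)) ∈ maximalIdeal _
    rw [← Hs.res_eq_zero_iff, Hs.res_of, Nbhd.res_algebraMap, he]
  have hflat : RingHom.Flat ψ.toRingHom := by
    refine ShFlat24.flat_of_etale (R := A) ψ.toRingHom ?_
    rw [AlgHom.toRingHom_eq_coe, AlgHom.comp_algebraMap]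
    exact RingHom.flat_algebraMap_iff.2 inferInstance
  letI : Algebra A' (Hs A p.ResidueField) := ψ.toRingHom.toAlgebra
  haveI : Module.Flat A' (Hs A p.ResidueField) := hflat
  haveI : (maximalIdeal (Hs A p.ResidueField)).LiesOver t := ⟨ht⟩
  obtain ⟨w, -, hw, hwo⟩ := Ideal.exists_ideal_le_liesOver_of_le (S := Hs A p.ResidueField)
    (maximalIdeal (Hs A p.ResidueField)) (p := t') (q := t) hle
  exact ⟨w, hw, hasDatum_map ψ t' t w (maximalIdeal _) hwo.over ht hd⟩

theorem liesOver_maximalIdeal (p : Ideal A) [p.IsPrime] :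
    (maximalIdeal (Hs A p.ResidueField)).LiesOver p := by
  constructor
  ext x
  rw [Ideal.under_def, Ideal.mem_comap, ← Hs.res_eq_zero_iff, AlgHom.commutes,
    Ideal.algebraMap_residueField_eq_zero]

end Groth.Agent.ImpHens28
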