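import Groth.Agent.Lib.Dev4.ImpurityQuasiFinite
import Groth.Agent.Lib.Hens.AtPrime

/-!
# Impurities in the henselization come from elementary étale neighbourhoods
-/

set_option autoImplicit false
set_option maxSynthPendingDepth 3
set_option linter.style.haveILetI false

universe u

open TensorProduct IsLocalRing

set_option backward.isDefEq.respectTransparency.types false

namespace Groth.Agent.ImpHens28

open Groth.Agent.Dev4 Groth.Agent.Hens

variable {A B N : Type u} [CommRing A] [CommRing B] [Algebra A B] [AddCommGroup N] [Module B N] [Module A N]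
  [IsScalarTower A B N]

/-- Finitely many elements of the colimit come from one neighbourhood. -/
theorem exists_nbhd_range {K : Type u} [Field K] [Algebra A K] (G : Finset (Hs A K)) :
    ∃ k : EtNbhd A K, (G : Set (Hs A K)) ⊆ Set.range k.toHs := by
  classical
  induction G using Finset.induction with
  | empty => exact ⟨Classical.arbitrary _, by simp⟩
  | insert a s _ ih =>
    obtain ⟨k₁, hk₁⟩ := ih
    obtain ⟨k₂, y, hy⟩ := EtNbhd.exists_toHs a
    obtain ⟨k, ⟨f₁⟩, ⟨f₂⟩⟩ := EtNbhd.exists_hom₂ k₁ k₂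
    refine ⟨k, fun b hb => ?_⟩
    rcases Finset.mem_insert.1 hb with rfl | hb
    · exact ⟨f₂.1 y, by rw [EtNbhd.toHs_hom, hy]⟩
    · obtain ⟨z, hz⟩ := hk₁ hb
      exact ⟨f₁.1 z, by rw [EtNbhd.toHs_hom, hz]⟩

theorem exists_nhd_datum {p : Ideal A} [p.IsPrime] {A' : Type u} [CommRing A'] [Algebra A A'] [IsLocalRing A']
    [Algebra (Localization.AtPrime p) A'] [IsScalarTower A (Localization.AtPrime p) A']
    [IsLocalHom (algebraMap (Localization.AtPrime p) A')]
    [Hensel.IsHenselization (Localization.AtPrime p) A'] (t' : Ideal A') [t'.IsPrime]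
    (hd : HasDatum A B N t' (maximalIdeal A')) :
    ∃ (R' : Type u) (_ : CommRing R') (_ : Algebra A R') (w P : Ideal R') (_ : w.IsPrime) (_ : P.IsPrime),
      FlatCA.IsEtaleNhd A R' p P ∧ w ≤ P ∧ HasDatum A B N w P := by
  obtain ⟨e⟩ := exists_equiv_isHenselization (Localization.AtPrime p) A' (Hs A p.ResidueField)
  let φ : Hs A p.ResidueField →ₐ[A] A' := (e.symm.toAlgHom).restrictScalars A
  let u' : Ideal (Hs A p.ResidueField) := t'.comap φ.toRingHom
  have hu : maximalIdeal (Hs A p.ResidueField) = (maximalIdeal A').comap φ.toRingHom := by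
    ext x
    simp only [mem_maximalIdeal, mem_nonunits_iff, Ideal.mem_comap]
    exact not_congr (MulEquiv.isUnit_map (e.symm : Hs A p.ResidueField ≃* A') (x := x)).symm
  obtain ⟨G, hG⟩ := exists_finset_hasDatum t' (maximalIdeal A') hd
  classical
  obtain ⟨k, hk⟩ := exists_nbhd_range (G.image (fun a => e a))
  let ψ : k.toNbhd.S →ₐ[A] A' := φ.comp k.toHs
  have hG' : (G : Set A') ⊆ Set.range ψ := fun a ha => by
    obtain ⟨y, hy⟩ := hk (Finset.mem_coe.2 (Finset.mem_image_of_mem _ ha))
    exact ⟨y, by show e.symm (k.toHs y) = a; rw [hy, e.symm_apply_apply]⟩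
  have hq : k.toNbhd.q = (maximalIdeal A').comap ψ.toRingHom := by
    ext x
    show k.toNbhd.σ x = 0 ↔ φ (k.toHs x) ∈ maximalIdeal A'
    rw [← show φ.toRingHom (k.toHs x) = φ (k.toHs x) from rfl, ← Ideal.mem_comap, ← hu, ← Hs.res_eq_zero_iff,
      EtNbhd.toHs_apply, Hs.res_of, Nbhd.res_algebraMap]
  refine ⟨k.toNbhd.S, inferInstance, inferInstance, t'.comap ψ.toRingHom, k.toNbhd.q, inferInstance, inferInstance,
    ⟨inferInstance, ⟨comap_ker_eq p k.toNbhd.σ⟩, ?_⟩, ?_, hG _ ψ hG' _ _ rfl hq⟩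
  · exact bijective_residueFieldMap p k.toNbhd.σ k.toNbhd.q rfl _
  · rw [hq]
    exact Ideal.comap_mono (le_maximalIdeal (Ideal.IsPrime.ne_top ‹_›))

end Groth.Agent.ImpHens28
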