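import Groth.Agent.Lib.Dev4.ImpurityQuasiFinite

/-!
# Impurities over a base which is Noetherian near the point
-/

set_option autoImplicit false
set_option maxSynthPendingDepth 3
set_option linter.style.haveILetI false

universe u

open TensorProduct IsLocalRing

set_option backward.isDefEq.respectTransparency.types false

attribute [local instance] Algebra.TensorProduct.rightAlgebra

namespace Groth.Agent.ImpHens28

open Groth.Agent.Dev4

variable {A B N : Type u} [CommRing A] [CommRing B] [Algebra A B] [AddCommGroup N] [Module B N] [Module A N]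
  [IsScalarTower A B N]

/-- Finite type algebras are Noetherian after localizing at a point with Noetherian local ring. -/
theorem isNoetherianRing_localized (p : Ideal A) [p.IsPrime] [IsNoetherianRing (Localization.AtPrime p)]
    (S : Type u) [CommRing S] [Algebra A S] [Algebra.FiniteType A S] :
    IsNoetherianRing (Localization (Algebra.algebraMapSubmonoid S p.primeCompl)) := by
  haveI : IsLocalization (p.primeCompl.map (algebraMap A S)) (Localization (Algebra.algebraMapSubmonoid S p.primeCompl)) :=
    inferInstanceAs (IsLocalization (Algebra.algebraMapSubmonoid S p.primeCompl) (Localization (Algebra.algebraMapSubmonoid S p.primeCompl)))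
  haveI : Algebra.FiniteType (Localization p.primeCompl) (Localization (Algebra.algebraMapSubmonoid S p.primeCompl)) :=
    RingHom.finiteType_algebraMap.1 (RingHom.finiteType_localizationPreserves (algebraMap A S) p.primeCompl
      (Localization p.primeCompl) (Localization (Algebra.algebraMapSubmonoid S p.primeCompl))
      (RingHom.finiteType_algebraMap.2 inferInstance))
  haveI : IsNoetherianRing (Localization p.primeCompl) := ‹IsNoetherianRing (Localization.AtPrime p)›
  exact Algebra.FiniteType.isNoetherianRing (Localization p.primeCompl) _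

theorem disjoint_of_le {S : Type u} [CommRing S] [Algebra A S] (p : Ideal A) [p.IsPrime] {v u : Ideal S}
    (hup : u.LiesOver p) (hle : v ≤ u) :
    Disjoint (Algebra.algebraMapSubmonoid S p.primeCompl : Set S) (v : Set S) := by
  rw [Set.disjoint_left]
  rintro _ ⟨a, ha, rfl⟩ hv
  exact ha ((Ideal.mem_of_liesOver u p a).2 (hle hv))

/-- There is no datum inside a single fibre. -/
theorem not_liesOver_of_hasDatum' {A₀ : Type u} [CommRing A₀] [Algebra A A₀] [Algebra.FiniteType A A₀] (p : Ideal A)
    [p.IsPrime] [IsNoetherianRing (Localization.AtPrime p)]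
    (u' u : Ideal A₀) [u'.IsPrime] [u.IsPrime] (hle : u' ≤ u) (hup : u.LiesOver p) (hd : HasDatum A B N u' u) :
    ¬ u'.LiesOver p := by
  intro hu'p
  let M := Algebra.algebraMapSubmonoid A₀ p.primeCompl
  let L := Localization M
  haveI : IsNoetherianRing L := isNoetherianRing_localized p A₀
  let φ : A₀ →ₐ[A] L := IsScalarTower.toAlgHom A A₀ L
  have hd' := disjoint_of_le p hup hle
  have hdu := disjoint_of_le p hup (le_refl u)
  haveI := IsLocalization.isPrime_of_isPrime_disjoint M L u' ‹u'.IsPrime› hd'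
  haveI := IsLocalization.isPrime_of_isPrime_disjoint M L u ‹u.IsPrime› hdu
  have h' : (u'.map (algebraMap A₀ L)).comap φ.toRingHom = u' :=
    IsLocalization.under_map_of_isPrime_disjoint M L ‹u'.IsPrime› hd'
  have h : (u.map (algebraMap A₀ L)).comap φ.toRingHom = u :=
    IsLocalization.under_map_of_isPrime_disjoint M L ‹u.IsPrime› hdu
  have hover : ∀ (v : Ideal A₀) (w : Ideal L), w.comap φ.toRingHom = v → v.LiesOver p → w.LiesOver p :=
    fun v w hvw hv => ⟨by
      show p = w.comap (algebraMap A L)
      rw [← φ.comp_algebraMap, ← Ideal.comap_comap]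
      exact hv.over.trans (congrArg (fun I => Ideal.comap (algebraMap A A₀) I) hvw.symm)⟩
  exact not_liesOver_of_hasDatum p _ _ (Ideal.map_mono hle) (hover u _ h hup)
    (hasDatum_map φ u' u _ _ h'.symm h.symm hd) (hover u' _ h' hu'p)

/-- A prime of dimension one below a given prime avoiding a given function. -/
theorem exists_prime_covBy' {S : Type u} [CommRing S] [Algebra A S] [Algebra.FiniteType A S] (p : Ideal A) [p.IsPrime]
    [IsNoetherianRing (Localization.AtPrime p)] (q' q : Ideal S) [q'.IsPrime] [q.IsPrime] (hqp : q.LiesOver p)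
    (hle : q' ≤ q) (h : S) (hq' : h ∉ q') (hq : h ∈ q) :
    ∃ r : Ideal S, r.IsPrime ∧ q' ≤ r ∧ r ≤ q ∧ h ∉ r ∧
      ∀ r' : Ideal S, r'.IsPrime → r ≤ r' → r' ≤ q → r' = r ∨ r' = q := by
  let M := Algebra.algebraMapSubmonoid S p.primeCompl
  let L := Localization M
  haveI : IsNoetherianRing L := isNoetherianRing_localized p S
  have hd' := disjoint_of_le p hqp hle
  have hdq := disjoint_of_le p hqp (le_refl q)
  haveI := IsLocalization.isPrime_of_isPrime_disjoint M L q' ‹q'.IsPrime› hd'
  haveI := IsLocalization.isPrime_of_isPrime_disjoint M L q ‹q.IsPrime› hdq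
  have hcm : ∀ v : Ideal S, v.IsPrime → v ≤ q → (v.map (algebraMap S L)).comap (algebraMap S L) = v :=
    fun v hv hvq => IsLocalization.under_map_of_isPrime_disjoint M L hv (disjoint_of_le p hqp hvq)
  obtain ⟨r, hr, h1, h2, h3, h4⟩ := exists_prime_covBy (q'.map (algebraMap S L)) (q.map (algebraMap S L))
    (Ideal.map_mono hle) (algebraMap S L h)
    (fun hh => hq' (by rw [← hcm q' inferInstance hle]; exact hh)) (Ideal.mem_map_of_mem _ hq)
  refine ⟨r.comap (algebraMap S L), Ideal.IsPrime.comap _, ?_, ?_, h3, fun r' hr' h5 h6 => ?_⟩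
  · exact (hcm q' inferInstance hle).ge.trans (Ideal.comap_mono h1)
  · exact (Ideal.comap_mono h2).trans (hcm q inferInstance le_rfl).le
  · haveI := IsLocalization.isPrime_of_isPrime_disjoint M L r' hr' (disjoint_of_le p hqp h6)
    rcases h4 (r'.map (algebraMap S L)) inferInstance
      ((IsLocalization.map_under M L r).ge.trans (Ideal.map_mono h5)) (Ideal.map_mono h6) with e | e
    · exact Or.inl (by rw [← e, hcm r' hr' h6])
    · exact Or.inr (by rw [← hcm r' hr' h6, e, hcm q inferInstance le_rfl])

/-- Generic freeness over a prime of an arbitrary ring. -/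
theorem exists_generic_free {R S M : Type u} [CommRing R] [CommRing S] [Algebra R S] [Algebra.FiniteType R S]
    [AddCommGroup M] [Module R M] [Module S M] [IsScalarTower R S M] [Module.Finite S M] (p : Ideal R) [p.IsPrime] :
    ∃ f ∉ p, Module.Free (Localization.Away (Ideal.Quotient.mk p f))
      (Localization.Away (Ideal.Quotient.mk p f) ⊗[R] M) := by
  letI := FlatH4.tensorModule R (R ⧸ p) S M
  haveI := FlatH4.tensorModule_isScalarTower R (R ⧸ p) S M
  haveI := FlatH4.tensorModule_finite R (R ⧸ p) S M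
  obtain ⟨f', hf', hfree, -⟩ := FlatH4.exists_free_and_fg_relations (R := R ⧸ p) (S := (R ⧸ p) ⊗[R] S)
    (M := (R ⧸ p) ⊗[R] M)
  obtain ⟨f, rfl⟩ := Ideal.Quotient.mk_surjective f'
  refine ⟨f, fun h => hf' (Ideal.Quotient.eq_zero_iff_mem.2 h), ?_⟩
  let L := Localization.Away (Ideal.Quotient.mk p f)
  haveI := hfree L (IsLocalization.Away.algebraMap_isUnit (Ideal.Quotient.mk p f))
  exact Module.Free.of_equiv (AlgebraTensorModule.cancelBaseChange R (R ⧸ p) L L M)

/-- The lower point of a datum moves to specialisations avoiding one function. -/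
theorem exists_move_lower' [Algebra.FiniteType A B] [Module.Finite B N] {A' : Type u} [CommRing A'] [Algebra A A']
    (t' t : Ideal A') [t'.IsPrime] [t.IsPrime] (h : HasDatum A B N t' t) :
    ∃ g : A', g ∉ t' ∧ ∀ (u : Ideal A') [u.IsPrime], t' ≤ u → g ∉ u → HasDatum A B N u t := by
  obtain ⟨a, s, n, hs, hat, hn, han⟩ := h
  let y : A' ⊗[A] N := fibAct A B N A' a n
  have hy : ∀ (u : Ideal A') [u.IsPrime],
      redMap A u N y = fibAct A B N u.ResidueField (redMap A u B a) (redMap A u N n) := fun u _ =>
    fibAct_natural (IsScalarTower.toAlgHom A A' u.ResidueField) a n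
  obtain ⟨d, hd, hdu⟩ := exists_redMap_eq_zero t' y (by rw [hy, han])
  -- the section stays nonzero near `t'`
  obtain ⟨g, hg, hgu⟩ : ∃ g : A', g ∉ t' ∧ ∀ (u : Ideal A') [u.IsPrime], t' ≤ u → g ∉ u → redMap A u N n ≠ 0 := by
    letI : Module (A' ⊗[A] B) (A' ⊗[A] N) := FlatH4.tensorModule A A' B N
    haveI : IsScalarTower A' (A' ⊗[A] B) (A' ⊗[A] N) := FlatH4.tensorModule_isScalarTower A A' B N
    haveI : Module.Finite (A' ⊗[A] B) (A' ⊗[A] N) := FlatH4.tensorModule_finite A A' B N
    obtain ⟨f, hf, hfree⟩ := exists_generic_free (R := A') (S := A' ⊗[A] B) (M := A' ⊗[A] N) t'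
    let D := A' ⧸ t'
    let L := Localization.Away (Ideal.Quotient.mk t' f)
    let b := Module.Free.chooseBasis L (L ⊗[A'] (A' ⊗[A] N))
    have hθ : ∀ (u : Ideal A') [u.IsPrime] (y : A' ⊗[A] N),
        AlgebraTensorModule.cancelBaseChange A A' A' u.ResidueField N ((1 : u.ResidueField) ⊗ₜ[A'] y) = redMap A u N y :=
      fun u _ y => by
        induction y using TensorProduct.induction_on with
        | zero => simp
        | add v w hv hw => simp only [TensorProduct.tmul_add, map_add, hv, hw]
        | tmul g m => simp [redMap_tmul, Algebra.smul_def]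
    have hlift : ∀ (u : Ideal A') [u.IsPrime], t' ≤ u → f ∉ u →
        ∃ π : L →+* u.ResidueField, π.comp (algebraMap A' L) = algebraMap A' u.ResidueField := by
      intro u _ hu hfu
      let π₀ : D →+* u.ResidueField := Ideal.Quotient.lift t' (algebraMap A' u.ResidueField)
        fun x hx => Ideal.algebraMap_residueField_eq_zero.2 (hu hx)
      have hunit : IsUnit (π₀ (Ideal.Quotient.mk t' f)) := by
        show IsUnit (algebraMap A' u.ResidueField f)
        exact isUnit_iff_ne_zero.2 fun h => hfu (Ideal.algebraMap_residueField_eq_zero.1 h)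
      refine ⟨IsLocalization.Away.lift (Ideal.Quotient.mk t' f) hunit, RingHom.ext fun x => ?_⟩
      rw [RingHom.comp_apply, IsScalarTower.algebraMap_apply A' D L, IsLocalization.Away.lift_eq]
      rfl
    -- a nonzero coordinate
    obtain ⟨i, hi⟩ : ∃ i, b.repr ((1 : L) ⊗ₜ[A'] n) i ≠ 0 := by
      by_contra hc
      push Not at hc
      have h0 : (1 : L) ⊗ₜ[A'] n = 0 := b.repr.injective (by rw [map_zero]; exact Finsupp.ext hc)
      obtain ⟨π, hπ⟩ := hlift t' le_rfl hf
      let π' : L →ₗ[A'] t'.ResidueField :=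
        { toFun := π, map_add' := map_add π, map_smul' := fun c x => by
            rw [Algebra.smul_def, map_mul, RingHom.id_apply, Algebra.smul_def, ← hπ]; rfl }
      have h1 := congrArg (π'.rTensor (A' ⊗[A] N)) h0
      rw [map_zero, LinearMap.rTensor_tmul] at h1
      refine hn ?_
      rw [← hθ t' n, show (1 : t'.ResidueField) = π' 1 from (map_one π).symm, h1, map_zero]
    obtain ⟨⟨c, ⟨_, k, rfl⟩⟩, hc⟩ := IsLocalization.surj (Submonoid.powers (Ideal.Quotient.mk t' f))
      (b.repr ((1 : L) ⊗ₜ[A'] n) i)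
    obtain ⟨c, rfl⟩ := Ideal.Quotient.mk_surjective c
    have hc0 : c ∉ t' := fun hc' => hi (by
      rw [Ideal.Quotient.eq_zero_iff_mem.2 hc', map_zero] at hc
      exact (IsLocalization.map_units L (⟨_, k, rfl⟩ : Submonoid.powers (Ideal.Quotient.mk t' f))).mul_left_eq_zero.1 hc)
    refine ⟨f * c, fun h => (‹t'.IsPrime›.mem_or_mem h).elim hf hc0, fun u _ hu hg h0 => ?_⟩
    obtain ⟨π, hπ⟩ := hlift u hu fun h => hg (u.mul_mem_right c h)
    letI : Algebra L u.ResidueField := π.toAlgebra
    haveI : IsScalarTower A' L u.ResidueField := IsScalarTower.of_algebraMap_eq fun x => (RingHom.congr_fun hπ x).symm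
    have h1 : (1 : u.ResidueField) ⊗ₜ[A'] n = 0 := by
      apply (AlgebraTensorModule.cancelBaseChange A A' A' u.ResidueField N).injective
      rw [hθ, h0, map_zero]
    have h2 : (1 : u.ResidueField) ⊗ₜ[L] ((1 : L) ⊗ₜ[A'] n) = 0 := by
      apply (AlgebraTensorModule.cancelBaseChange A' L L u.ResidueField (A' ⊗[A] N)).injective
      rw [map_zero, AlgebraTensorModule.cancelBaseChange_tmul, one_smul, h1]
    let coord : L ⊗[A'] (A' ⊗[A] N) →ₗ[L] L := (Finsupp.lapply i).comp b.repr.toLinearMap
    have h3 := congrArg (TensorProduct.rid L u.ResidueField) (congrArg (coord.baseChange u.ResidueField) h2)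
    rw [LinearMap.baseChange_tmul, map_zero, map_zero, TensorProduct.rid_tmul, Algebra.smul_def, mul_one] at h3
    have h4 := congrArg π hc
    change π (coord (1 ⊗ₜ[A'] n)) = 0 at h3
    rw [map_mul, show π (b.repr ((1 : L) ⊗ₜ[A'] n) i) = 0 from h3, zero_mul] at h4
    refine hg (u.mul_mem_left f (Ideal.algebraMap_residueField_eq_zero.1 ?_))
    rw [← hπ, RingHom.comp_apply, IsScalarTower.algebraMap_apply A' D L]
    exact h4.symm
  refine ⟨g * d, fun h => (‹t'.IsPrime›.mem_or_mem h).elim hg hd, fun u _ hu hgd => ?_⟩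
  exact ⟨a, s, n, hs, hat, hgu u hu fun h => hgd (u.mul_mem_right d h),
    by rw [← hy]; exact hdu u hu fun h => hgd (u.mul_mem_left g h)⟩

/-- Over a base Noetherian near the point a datum gives one with quasi-finite upper point. -/
theorem exists_quasiFinite_of_localNoetherian [Algebra.FiniteType A B] [Module.Finite B N] {p : Ideal A} [p.IsPrime]
    [IsNoetherianRing (Localization.AtPrime p)]
    {A' : Type u} [CommRing A'] [Algebra A A'] (t' t : Ideal A') [t'.IsPrime] [t.IsPrime] (hle : t' ≤ t)
    (htp : t.LiesOver p) (hd : HasDatum A B N t' t) :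
    ∃ (A₁ : Type u) (_ : CommRing A₁) (_ : Algebra A A₁) (v' v : Ideal A₁) (_ : v'.IsPrime) (_ : v.IsPrime),
      Algebra.FiniteType A A₁ ∧ Algebra.QuasiFiniteAt A v ∧ v' ≤ v ∧ v.LiesOver p ∧ HasDatum A B N v' v := by
  obtain ⟨A₀, _, _, u', u, _, _, hfp, hle₀, hup, hmax, hd₀⟩ := exists_fp_closedPoint (p := p) t' t hle htp hd
  haveI := hfp
  haveI := hup
  obtain ⟨g, hg, hgu⟩ := exists_move_lower' u' u hd₀
  haveI : Algebra.FiniteType A A₀ := inferInstance
  have hnot := not_liesOver_of_hasDatum' p u' u hle₀ hup hd₀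
  obtain ⟨e, hep, heu'⟩ : ∃ e ∈ p, algebraMap A A₀ e ∉ u' := by
    by_contra hc
    push Not at hc
    exact hnot ⟨le_antisymm (fun x hx => hc x hx) fun x hx => (Ideal.mem_of_liesOver u p x).2 (hle₀ hx)⟩
  obtain ⟨r, hr, hu'r, hru, hgr, hcov⟩ := exists_prime_covBy' p u' u hup hle₀ (g * algebraMap A A₀ e)
    (fun h => (‹u'.IsPrime›.mem_or_mem h).elim hg heu') (u.mul_mem_left g ((Ideal.mem_of_liesOver u p e).1 hep))
  haveI := hr
  have hd₁ := hgu r hu'r fun h => hgr (r.mul_mem_right _ h)
  let A₁ := A₀ ⧸ r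
  let π := Ideal.Quotient.mkₐ A r
  let v := u.map π.toRingHom
  have hker : RingHom.ker π.toRingHom ≤ u := by
    show RingHom.ker (Ideal.Quotient.mk r) ≤ u
    rwa [Ideal.mk_ker]
  haveI : v.IsPrime := Ideal.map_isPrime_of_surjective Ideal.Quotient.mk_surjective hker
  haveI : (⊥ : Ideal A₁).IsPrime := Ideal.isPrime_bot
  have hv : v.comap π.toRingHom = u := by
    show (u.map π.toRingHom).comap π.toRingHom = u
    rw [Ideal.comap_map_of_surjective π.toRingHom Ideal.Quotient.mk_surjective]
    exact sup_eq_left.2 hker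
  have hr' : r = (⊥ : Ideal A₁).comap π.toRingHom := (Ideal.mk_ker (I := r)).symm
  have hover : ∀ w : Ideal A₁, w.LiesOver p ↔ (w.comap π.toRingHom).LiesOver p := fun w => by
    constructor <;> intro h <;> refine ⟨?_⟩
    · show p = (w.comap π.toRingHom).comap (algebraMap A A₀)
      rw [Ideal.comap_comap, AlgHom.toRingHom_eq_coe, π.comp_algebraMap]; exact h.over
    · show p = w.comap (algebraMap A A₁)
      rw [← π.comp_algebraMap, ← Ideal.comap_comap]; exact h.over
  haveI : v.LiesOver p := (hover v).2 (by rw [hv]; exact hup)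
  refine ⟨A₁, inferInstance, inferInstance, ⊥, v, inferInstance, inferInstance, inferInstance, ?_, bot_le, inferInstance,
    hasDatum_map π r u ⊥ v hr' hv.symm hd₁⟩
  refine quasiFiniteAt_of_isolated p v (fun w hw hwp hle' => ?_) (fun w hw hwp hle' => ?_)
  · have h1 : u ≤ w.comap π.toRingHom := hv ▸ Ideal.comap_mono hle'
    have h2 : (w.comap π.toRingHom).LiesOver p := (hover w).1 hwp
    obtain ⟨x, hx⟩ := RG4.exists_fiber_point p (w.comap π.toRingHom)
    have h3 : FlatCA.fiberIdeal p u ≤ x.asIdeal := Ideal.map_le_iff_le_comap.2 (h1.trans hx.ge)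
    have h4 := hmax.eq_of_le x.2.ne_top h3
    refine Ideal.comap_injective_of_surjective π.toRingHom Ideal.Quotient.mk_surjective
      (le_antisymm ?_ (Ideal.comap_mono hle'))
    rw [hv, ← hx, ← comap_fiberIdeal p u, h4]
    exact le_rfl
  · have h1 : (w.comap π.toRingHom) ≤ u := hv ▸ Ideal.comap_mono hle'
    haveI : (w.comap π.toRingHom).LiesOver p := (hover w).1 hwp
    have h2 : r ≤ w.comap π.toRingHom := hr'.le.trans (Ideal.comap_mono bot_le)
    refine Ideal.comap_injective_of_surjective π.toRingHom Ideal.Quotient.mk_surjective ?_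
    rcases hcov _ inferInstance h2 h1 with h | h
    · refine absurd ?_ hgr
      rw [← h]
      exact (w.comap π.toRingHom).mul_mem_left g ((Ideal.mem_of_liesOver (w.comap π.toRingHom) p e).1 hep)
    · rw [h, hv]

end Groth.Agent.ImpHens28
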